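import Cfsg.Agent.Lib.M22Nse.Defs

/-!
# The four groups centralising elements of order three
-/

set_option autoImplicit false
set_option linter.unusedSectionVars false

namespace CfsgLib.M22Nse.Six

open Subgroup

universe u

variable {G : Type u} [Group G]

theorem conj_order (g x : G) : orderOf (g * x * g⁻¹) = orderOf x :=
  (MulAut.conj g).orderOf_eq x

theorem mul_self_of_two {a : G} (h : orderOf a = 2) : a * a = 1 := by
  rw [← pow_two, ← h, pow_orderOf_eq_one]

theorem orderOf_two {a : G} (h : a * a = 1) (h1 : a ≠ 1) : orderOf a = 2 :=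
  orderOf_eq_prime (by rwa [pow_two]) h1

theorem comm_of_sq {a b : G} (ha : a * a = 1) (hb : b * b = 1) (hab : a * b * (a * b) = 1) :
    Commute a b := by
  have h1 : (a * b)⁻¹ = a * b := inv_eq_of_mul_eq_one_right hab
  have h2 : a⁻¹ = a := inv_eq_of_mul_eq_one_right ha
  have h3 : b⁻¹ = b := inv_eq_of_mul_eq_one_right hb
  rw [mul_inv_rev, h2, h3] at h1
  exact h1.symm

variable [Finite G]

/-- Fixed points of an element of order three on an invariant set, modulo three. -/
theorem card_modEq {x : G} (hx : x ^ 3 = 1) (S : Set G) (hS : ∀ g ∈ S, x * g * x⁻¹ ∈ S) :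
    Nat.card S ≡ Nat.card {g : G // g ∈ S ∧ Commute x g} [MOD 3] := by
  have : Fact (Nat.Prime 3) := ⟨Nat.prime_three⟩
  have hmem : ∀ q ∈ zpowers x, ∀ g ∈ S, q * g * q⁻¹ ∈ S := by
    intro q hq
    obtain ⟨n, rfl⟩ := mem_powers_iff_mem_zpowers.2 hq
    clear hq
    induction n with
    | zero => simp
    | succ n ih =>
      intro g hg
      have h := hS _ (ih g hg)
      simpa [pow_succ', mul_assoc] using h
  let _ : MulAction (zpowers x) S :=
    { smul := fun q g => ⟨(q : G) * g.1 * (q : G)⁻¹, hmem q q.2 g g.2⟩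
      one_smul := fun g => Subtype.ext (show (1 : G) * g.1 * (1 : G)⁻¹ = g.1 by simp)
      mul_smul := fun q r g => Subtype.ext
        (show (q : G) * r * g.1 * ((q : G) * r)⁻¹ = q * (r * g.1 * (r : G)⁻¹) * (q : G)⁻¹ by
          group) }
  have hP : IsPGroup 3 (zpowers x) := fun q => ⟨1, Subtype.ext (by
    obtain ⟨n, hn⟩ := mem_zpowers_iff.1 q.2
    rw [pow_one, SubmonoidClass.coe_pow, ← hn, ← zpow_natCast, ← zpow_mul, mul_comm,
      zpow_mul, zpow_natCast, hx, one_zpow]; rfl)⟩
  refine (hP.card_modEq_card_fixedPoints _).trans ?_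
  rw [Nat.card_congr (α := MulAction.fixedPoints (zpowers x) S) (β := {g : G // g ∈ S ∧ Commute x g})
    { toFun := fun g => ⟨g.1.1, g.1.2,
        mul_inv_eq_iff_eq_mul.1 (congrArg Subtype.val (g.2 ⟨x, mem_zpowers x⟩) :)⟩
      invFun := fun g => ⟨⟨g.1, g.2.1⟩, fun q => Subtype.ext (by
        obtain ⟨n, hn⟩ := mem_zpowers_iff.1 q.2
        show (q : G) * g.1 * (q : G)⁻¹ = g.1
        rw [← hn]
        exact mul_inv_eq_iff_eq_mul.2 (g.2.2.zpow_left n).eq)⟩
      left_inv := fun _ => rfl
      right_inv := fun _ => rfl }]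

theorem exists_fixed {x : G} (hx : x ^ 3 = 1) (S : Set G) (hS : ∀ g ∈ S, x * g * x⁻¹ ∈ S)
    (h3 : ¬ 3 ∣ Nat.card S) : ∃ g ∈ S, Commute x g := by
  by_contra h
  push Not at h
  have : IsEmpty {g : G // g ∈ S ∧ Commute x g} := ⟨fun g => h g.1 g.2.1 g.2.2⟩
  have h1 := card_modEq hx S hS
  rw [Nat.card_of_isEmpty (α := {g : G // g ∈ S ∧ Commute x g})] at h1
  exact h3 (Nat.modEq_zero_iff_dvd.1 h1)

variable (F : Facts G)
include F

theorem mul_order {a b : G} (h : Commute a b) (hc : (orderOf a).Coprime (orderOf b)) :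
    orderOf a * orderOf b ∈ [1, 2, 3, 4, 5, 6, 7, 8, 11] := by
  rw [← h.orderOf_mul_eq_mul_orderOf_of_coprime hc]
  exact F.orders _

/-- two-elements commuting with an element of order three square to one -/
theorem sq_of_comm {u v : G} (hu : orderOf u = 3) (h : Commute u v) {k : ℕ}
    (hk : v ^ 2 ^ k = 1) : v * v = 1 := by
  obtain ⟨e, -, he⟩ := (Nat.dvd_prime_pow Nat.prime_two).1 (orderOf_dvd_of_pow_eq_one hk)
  have h1 := mul_order F h (by rw [hu, he]; exact Nat.Coprime.pow_right e (by norm_num))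
  rw [hu, he] at h1
  have he1 : e ≤ 1 := by
    by_contra hc
    have : 4 ≤ 2 ^ e := le_trans (by norm_num) (Nat.pow_le_pow_right (by norm_num) (by omega : 2 ≤ e))
    simp only [List.mem_cons, List.not_mem_nil, or_false] at h1
    omega
  rw [← pow_two]
  exact orderOf_dvd_iff_pow_eq_one.1 (he ▸ Nat.pow_dvd_pow 2 he1)

omit F in
/-- the group generated by the involutions commuting with an element -/
def four (u : G) : Subgroup G := closure {v | Commute u v ∧ v * v = 1}

theorem four_spec {u : G} (hu : orderOf u = 3) :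
    Nat.card (four u) = 4 ∧ ∀ v, v ∈ four u ↔ Commute u v ∧ v * v = 1 := by
  classical
  have : Fact (Nat.Prime 2) := ⟨Nat.prime_two⟩
  obtain ⟨S, hS⟩ := Sylow.exists_subgroup_card_pow_prime 2 (n := 2)
    (G := centralizer ({u} : Set G)) (by rw [F.cent3 u hu]; norm_num)
  set T := S.map (centralizer ({u} : Set G)).subtype with hT
  have hTc : Nat.card T = 4 := by
    rw [hT, card_map_of_injective (subtype_injective _), hS]; norm_num
  let X : Set G := {v | Commute u v ∧ v * v = 1}
  have hsub : (T : Set G) ⊆ X := by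
    rintro v ⟨w, hw, rfl⟩
    have hc : Commute u (w : G) := (mem_centralizer_singleton_iff.1 w.2).symm
    refine ⟨hc, sq_of_comm F hu hc (k := 2) ?_⟩
    have h1 := S.orderOf_dvd_natCard hw
    rw [hS, ← Subgroup.orderOf_coe] at h1
    exact orderOf_dvd_iff_pow_eq_one.1 h1
  have hXc : X.ncard = 4 := by
    have e : X = insert 1 {v : G | Commute u v ∧ orderOf v = 2} := by
      ext v
      constructor
      · rintro ⟨h1, h2⟩
        rcases eq_or_ne v 1 with rfl | hv
        · exact Or.inl rfl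
        · exact Or.inr ⟨h1, orderOf_two h2 hv⟩
      · rintro (rfl | ⟨h1, h2⟩)
        · exact ⟨Commute.one_right u, mul_one 1⟩
        · exact ⟨h1, mul_self_of_two h2⟩
    rw [e, Set.ncard_insert_of_notMem (by simp [orderOf_one]) (Set.toFinite _),
      ← Nat.card_coe_set_eq]
    exact congrArg (· + 1) (F.invol3 u hu)
  have heq : (T : Set G) = X := Set.eq_of_subset_of_ncard_le hsub
    (by rw [hXc, ← Nat.card_coe_set_eq]; exact hTc.ge) (Set.toFinite _)
  have hfour : four u = T := by
    show closure X = T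
    rw [← heq, closure_eq]
  refine ⟨by rw [hfour, hTc], fun v => ?_⟩
  rw [hfour, ← SetLike.mem_coe, heq]
  rfl

theorem card_four {u : G} (hu : orderOf u = 3) : Nat.card (four u) = 4 := (four_spec F hu).1

theorem mem_four {u : G} (hu : orderOf u = 3) {v : G} :
    v ∈ four u ↔ Commute u v ∧ v * v = 1 := (four_spec F hu).2 v

theorem four_comm {u : G} (hu : orderOf u = 3) {v w : G} (hv : v ∈ four u) (hw : w ∈ four u) :
    Commute v w :=
  comm_of_sq ((mem_four F hu).1 hv).2 ((mem_four F hu).1 hw).2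
    ((mem_four F hu).1 (mul_mem hv hw)).2

theorem two_mem_four {u v : G} (hu : orderOf u = 3) (h : Commute u v) {k : ℕ}
    (hk : v ^ 2 ^ k = 1) : v ∈ four u :=
  (mem_four F hu).2 ⟨h, sq_of_comm F hu h hk⟩

/-- an element fixing or inverting `u` normalises its four group -/
theorem conj_four {u g v : G} (hu : orderOf u = 3) (hg : g * u * g⁻¹ = u ∨ g * u * g⁻¹ = u⁻¹)
    (hv : v ∈ four u) : g * v * g⁻¹ ∈ four u := by
  obtain ⟨h1, h2⟩ := (mem_four F hu).1 hv
  refine (mem_four F hu).2 ⟨?_, by rw [conj_mul, h2, mul_one, mul_inv_cancel]⟩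
  have h3 : Commute (g * u * g⁻¹) (g * v * g⁻¹) := (Commute.conj_iff g).2 h1
  rcases hg with e | e <;> rw [e] at h3
  · exact h3
  · exact Commute.inv_left_iff.1 h3

/-- the same, as a statement on the normaliser -/
theorem mem_normalizer_four {u g : G} (hu : orderOf u = 3)
    (hg : g * u * g⁻¹ = u ∨ g * u * g⁻¹ = u⁻¹) : g ∈ normalizer (four u : Set G) := by
  refine mem_normalizer_iff.2 fun v => ⟨conj_four F hu hg, fun h => ?_⟩
  have hg' : g⁻¹ * u * g⁻¹⁻¹ = u ∨ g⁻¹ * u * g⁻¹⁻¹ = u⁻¹ := by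
    rcases hg with e | e
    · left
      conv_lhs => rw [← e]
      group
    · right
      have e2 : g * u⁻¹ * g⁻¹ = u := by rw [← conj_inv, e, inv_inv]
      conv_lhs => rw [← e2]
      group
  simpa [mul_assoc] using conj_four F hu hg' h

/-! ### A Sylow subgroup of order nine -/

theorem card_syl (P : Sylow 3 G) : Nat.card (P : Subgroup G) = 9 := by
  rw [P.card_eq_multiplicity, F.card,
    show (443520 : ℕ) = 3 ^ 2 * 49280 by norm_num, Nat.factorization_mul (by norm_num) (by norm_num),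
    Finsupp.add_apply, Nat.Prime.factorization_pow Nat.prime_three,
    Nat.factorization_eq_zero_of_not_dvd (by norm_num : ¬ 3 ∣ 49280)]
  simp

theorem syl_comm (P : Sylow 3 G) {a b : G} (ha : a ∈ (P : Subgroup G))
    (hb : b ∈ (P : Subgroup G)) : Commute a b :=
  congrArg Subtype.val ((IsPGroup.isMulCommutative_of_card_eq_prime_sq (p := 3)
    (G := (P : Subgroup G)) (by rw [card_syl F P]; norm_num)).is_comm.comm ⟨a, ha⟩ ⟨b, hb⟩)

theorem syl_order (P : Sylow 3 G) {a : G} (ha : a ∈ (P : Subgroup G))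
    (h1 : a ≠ 1) : orderOf a = 3 := by
  have h := (P : Subgroup G).orderOf_dvd_natCard ha
  rw [card_syl F P, show (9 : ℕ) = 3 ^ 2 by norm_num] at h
  obtain ⟨i, hi, he⟩ := (Nat.dvd_prime_pow Nat.prime_three).1 h
  have := F.orders a
  rw [he] at this
  interval_cases i
  · exact absurd (orderOf_eq_one_iff.1 (he.trans (pow_zero 3))) h1
  · rw [he, pow_one]
  · simp at this

theorem syl_four_disjoint (P : Sylow 3 G) {u v : G} (hu : orderOf u = 3)
    (hv : v ∈ (P : Subgroup G)) (hv' : v ∈ four u) : v = 1 := by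
  by_contra h
  have h2 := orderOf_two ((mem_four F hu).1 hv').2 h
  have := syl_order F P hv h
  omega

theorem syl_generates (P : Sylow 3 G) {x y : G} (hx : x ∈ (P : Subgroup G))
    (hx1 : x ≠ 1) (hy : y ∈ (P : Subgroup G)) (hyx : y ∉ zpowers x) {H : Subgroup G}
    (h1 : x ∈ H) (h2 : y ∈ H) : (P : Subgroup G) ≤ H := by
  set K := (P : Subgroup G) ⊓ H with hK
  have hxK : zpowers x ≤ K := zpowers_le.2 ⟨hx, h1⟩
  have h3 : 3 ∣ Nat.card K := by
    have := card_dvd_of_le hxK
    rwa [Nat.card_zpowers, syl_order F P hx hx1] at this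
  have h9 : Nat.card K ∣ 9 := card_syl F P ▸ card_dvd_of_le inf_le_left
  have hne : Nat.card K ≠ 3 := fun h => hyx (by
    rw [eq_of_le_of_card_ge hxK (by rw [h, Nat.card_zpowers, syl_order F P hx hx1])]
    exact ⟨hy, h2⟩)
  have h9' : Nat.card K = 9 := by
    have := Nat.le_of_dvd (by norm_num) h9
    interval_cases (Nat.card K) <;> omega
  have : K = (P : Subgroup G) := eq_of_le_of_card_ge inf_le_left (by rw [h9', card_syl F P])
  exact this ▸ inf_le_right

/-- no element of the four group of `x` is fixed by the whole Sylow subgroup -/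
theorem not_comm (P : Sylow 3 G) {x y v : G} (hx : x ∈ (P : Subgroup G))
    (hx1 : x ≠ 1) (hy : y ∈ (P : Subgroup G)) (hyx : y ∉ zpowers x) (hv : v ∈ four x)
    (h : Commute y v) : v = 1 := by
  have hu := syl_order F P hx hx1
  refine syl_four_disjoint F P hu ?_ hv
  rw [← F.cent_syl3 P, mem_centralizer_iff]
  intro p hp
  exact (mem_centralizer_singleton_iff.1 ((syl_generates F P hx hx1 hy hyx
    (mem_centralizer_singleton_iff.2 ((mem_four F hu).1 hv).1.eq)
    (mem_centralizer_singleton_iff.2 h.eq)) hp)).symm ▸ rfl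

/-- an involution inverting the Sylow subgroup -/
theorem exists_inverting (P : Sylow 3 G) :
    ∃ s : G, s * s = 1 ∧ s ≠ 1 ∧ ∀ p ∈ (P : Subgroup G), s * p * s⁻¹ = p⁻¹ := by
  have : Fact (Nat.Prime 2) := ⟨Nat.prime_two⟩
  obtain ⟨⟨s, hsN⟩, hs⟩ := exists_prime_orderOf_dvd_card'
    (G := normalizer ((P : Subgroup G) : Set G)) 2 (by rw [F.norm3 P]; norm_num)
  rw [← Subgroup.orderOf_coe] at hs
  have hs' : orderOf s = 2 := hs
  have hss := mul_self_of_two hs'
  have hs1 : s ≠ 1 := fun h => by simp [h] at hs'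
  have hmem : ∀ p ∈ (P : Subgroup G), s * p * s⁻¹ ∈ (P : Subgroup G) := fun p hp =>
    (mem_normalizer_iff.1 hsN p).1 hp
  have hfree : ∀ u ∈ (P : Subgroup G), u ≠ 1 → ¬ Commute u s := by
    intro u hu hu1 hc
    have ho := syl_order F P hu hu1
    have hs4 : s ∈ four u := (mem_four F ho).2 ⟨hc, hss⟩
    have hsP : s ∈ centralizer ((P : Subgroup G) : Set G) := by
      rw [mem_centralizer_iff]
      intro p hp
      have h1 : p * s * p⁻¹ * s⁻¹ ∈ four u := mul_mem (conj_four F ho
        (Or.inl (mul_inv_eq_iff_eq_mul.2 (syl_comm F P hp hu).eq)) hs4) (inv_mem hs4)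
      have h2 : p * s * p⁻¹ * s⁻¹ ∈ (P : Subgroup G) := by
        have := mul_mem hp (hmem p⁻¹ (inv_mem hp))
        simpa [mul_assoc] using this
      have h3 := syl_four_disjoint F P ho h2 h1
      rw [mul_inv_eq_one, mul_inv_eq_iff_eq_mul] at h3
      exact h3
    rw [F.cent_syl3 P] at hsP
    have := syl_order F P hsP hs1
    omega
  refine ⟨s, hss, hs1, fun p hp => ?_⟩
  have hsi : s⁻¹ = s := inv_eq_of_mul_eq_one_right hss
  set q := p * (s * p * s⁻¹) with hq
  have hc : Commute q s := by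
    have e : s * q * s⁻¹ = q := by
      calc s * q * s⁻¹ = (s * p * s⁻¹) * (s * s * p * (s⁻¹ * s⁻¹)) := by rw [hq]; group
        _ = (s * p * s⁻¹) * p := by rw [hss, hsi, hss]; group
        _ = q := (syl_comm F P (hmem p hp) hp).eq
    exact (mul_inv_eq_iff_eq_mul.1 e).symm
  have hq1 : q = 1 := by
    by_contra h
    exact hfree q (mul_mem hp (hmem p hp)) h hc
  exact (inv_eq_of_mul_eq_one_right hq1).symm

end CfsgLib.M22Nse.Six
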