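import Cfsg.Agent.Lib.M22Nse.Sixteen.Base

/-!
# The centraliser of the involution attached to an element of order three
-/

set_option autoImplicit false
set_option linter.unusedSectionVars false
set_option maxHeartbeats 400000

namespace CfsgLib.M22Nse.Six

open Subgroup Equiv

universe u

variable {G : Type u} [Group G] [Finite G]

theorem perm3_facts : (∀ a b : Perm (Fin 3), a ^ 3 = 1 → a ≠ 1 → b * b = 1 → a * b = b * a → b = 1) ∧
    (∀ a b g : Perm (Fin 3), a ^ 3 = 1 → a ≠ 1 → b * b = 1 → b ≠ 1 →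
      ∃ i : Fin 3, ∃ j : Fin 2, g = a ^ (i : ℕ) * b ^ (j : ℕ)) ∧
    (∀ a : Perm (Fin 3), a ^ 3 = 1 ∨ a ^ 2 = 1) := by
  have h1 : ∀ a b : Perm (Fin 3),
      a * a * a ≠ 1 ∨ a = 1 ∨ b * b ≠ 1 ∨ a * b ≠ b * a ∨ b = 1 := by decide +kernel
  have h2 : ∀ a b g : Perm (Fin 3), a * a * a ≠ 1 ∨ a = 1 ∨ b * b ≠ 1 ∨ b = 1 ∨
      (g = 1 ∨ g = a ∨ g = a * a ∨ g = b ∨ g = a * b ∨ g = a * a * b) := by decide +kernel
  have h3 : ∀ a : Perm (Fin 3), a * a * a = 1 ∨ a * a = 1 := by decide +kernel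
  refine ⟨fun a b k1 k2 k3 k4 => ?_, fun a b g k1 k2 k3 k4 => ?_, fun a => ?_⟩
  · rw [pow_three'] at k1
    have := h1 a b
    tauto
  · rw [pow_three'] at k1
    rcases h2 a b g with h | h | h | h | h | h | h | h | h | h
    · exact absurd k1 h
    · exact absurd h k2
    · exact absurd k3 h
    · exact absurd h k4
    · exact ⟨0, 0, by simpa using h⟩
    · exact ⟨1, 0, by simpa using h⟩
    · exact ⟨2, 0, by simpa [pow_two] using h⟩
    · exact ⟨0, 1, by simpa using h⟩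
    · exact ⟨1, 1, by simpa using h⟩
    · exact ⟨2, 1, by simpa [pow_two] using h⟩
  · rw [pow_three', pow_two]
    exact h3 a

/-- the point of the four group of `x` fixed by `s`, and the largest normal two-subgroup of its
centraliser -/
structure Data (P : Sylow 3 G) (s x : G) where
  hx : x ∈ (P : Subgroup G)
  hx1 : x ≠ 1
  hss : s * s = 1
  hinv : ∀ p ∈ (P : Subgroup G), s * p * s⁻¹ = p⁻¹
  z : G
  hz : z ∈ four x
  hz1 : z ≠ 1
  hsz : Commute s z
  hswap : ∀ v ∈ four x, v ≠ 1 → v ≠ z → s * v * s⁻¹ = z * v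
  O : Subgroup G
  O_le : O ≤ centralizer ({z} : Set G)
  card_O : Nat.card O = 64
  O_norm : ∀ g ∈ centralizer ({z} : Set G), ∀ o ∈ O, g * o * g⁻¹ ∈ O
  four_le : four x ≤ O
  decomp : ∀ g ∈ centralizer ({z} : Set G), ∃ o ∈ O, ∃ i : Fin 3, ∃ j : Fin 2,
    g = o * x ^ (i : ℕ) * s ^ (j : ℕ)
  x_notMem : x ∉ O
  sq_mem : ∀ g ∈ centralizer ({z} : Set G), ∀ k : ℕ, g ^ 2 ^ k = 1 → g ^ 2 ∈ O

theorem exists_fixed_point (F : Facts G) {s x : G} (hx : orderOf x = 3) (hss : s * s = 1)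
    (hinv : s * x * s⁻¹ = x⁻¹) : ∃ z ∈ four x, z ≠ 1 ∧ Commute s z := by
  have h4 := card_four F hx
  have : Nontrivial (four x) := Finite.one_lt_card_iff_nontrivial.1 (by omega)
  obtain ⟨⟨v, hv⟩, hv1⟩ := exists_ne (1 : four x)
  have hv1' : v ≠ 1 := fun h => hv1 (Subtype.ext h)
  set w := s * v * s⁻¹ with hw
  by_cases hwv : w = v
  · exact ⟨v, hv, hv1', mul_inv_eq_iff_eq_mul.1 hwv⟩
  have hwm : w ∈ four x := conj_four F hx (Or.inr hinv) hv
  refine ⟨v * w, mul_mem hv hwm, fun h => hwv ?_, ?_⟩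
  · rw [← inv_eq_of_mul_eq_one_right ((mem_four F hx).1 hv).2]
    exact (inv_eq_of_mul_eq_one_right h).symm
  · refine mul_inv_eq_iff_eq_mul.1 ?_
    calc s * (v * w) * s⁻¹ = w * (s * s * v * (s⁻¹ * s⁻¹)) := by rw [hw]; group
      _ = w * v := by rw [hss, inv_eq_of_mul_eq_one_right hss, hss]; group
      _ = v * w := (four_comm F hx hwm hv).eq

theorem four_cases (F : Facts G) {x z v : G} (hx : orderOf x = 3) (hz : z ∈ four x) (hz1 : z ≠ 1)
    (hv : v ∈ four x) (hv1 : v ≠ 1) (hvz : v ≠ z) {w : G} (hw : w ∈ four x) :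
    w = 1 ∨ w = z ∨ w = v ∨ w = z * v := by
  classical
  have hzz := ((mem_four F hx).1 hz).2
  have hsub : ({1, z, v, z * v} : Set G) ⊆ (four x : Set G) := by
    rintro u (rfl | rfl | rfl | rfl)
    exacts [one_mem _, hz, hv, mul_mem hz hv]
  have hc : ({1, z, v, z * v} : Set G).ncard = 4 := by
    rw [Set.ncard_eq_toFinset_card']
    have h1 : z * v ≠ 1 := fun h => hvz (by
      rw [← inv_eq_of_mul_eq_one_right h]; exact inv_eq_of_mul_eq_one_right hzz)
    simp [hz1.symm, hv1.symm, h1.symm, hvz.symm, hv1, hz1]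
  have := Set.eq_of_subset_of_ncard_le hsub (by
    rw [hc, ← Nat.card_coe_set_eq]; exact (card_four F hx).le) (Set.toFinite _)
  exact this.symm.subset hw

theorem exists_data (F : Facts G) (P : Sylow 3 G) {s x : G} (hx : x ∈ (P : Subgroup G))
    (hx1 : x ≠ 1) (hss : s * s = 1) (hinv : ∀ p ∈ (P : Subgroup G), s * p * s⁻¹ = p⁻¹) :
    Nonempty (Data P s x) := by
  classical
  have : Fact (Nat.Prime 2) := ⟨Nat.prime_two⟩
  have ho := syl_order F P hx hx1
  have hx3 : x ^ 3 = 1 := by rw [← ho, pow_orderOf_eq_one]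
  have hs1 : s ≠ 1 := by
    rintro rfl
    have h := hinv x hx
    rw [one_mul, inv_one, mul_one] at h
    have : x ^ 2 = 1 := by rw [pow_two]; nth_rewrite 1 [h]; exact inv_mul_cancel x
    have h2 := orderOf_dvd_iff_pow_eq_one.2 this
    rw [ho] at h2
    norm_num at h2
  obtain ⟨z, hz, hz1, hsz⟩ := exists_fixed_point F ho hss (hinv x hx)
  obtain ⟨hxz, hzz⟩ := (mem_four F ho).1 hz
  -- `s` moves the other two involutions of the four group
  obtain ⟨y, hy, hyx⟩ : ∃ y ∈ (P : Subgroup G), y ∉ zpowers x := by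
    by_contra h
    push Not at h
    have := card_dvd_of_le (show (P : Subgroup G) ≤ zpowers x from h)
    rw [card_syl F P, Nat.card_zpowers, ho] at this
    norm_num at this
  have hswap : ∀ v ∈ four x, v ≠ 1 → v ≠ z → s * v * s⁻¹ = z * v := by
    intro v hv hv1 hvz
    have hvv := ((mem_four F ho).1 hv).2
    have hsv : s * v * s⁻¹ ∈ four x := conj_four F ho (Or.inr (hinv x hx)) hv
    have hnc : ¬ Commute s v := by
      intro hc
      have hall : ∀ w ∈ four x, Commute s w := fun w hw => by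
        rcases four_cases F ho hz hz1 hv hv1 hvz hw with rfl | rfl | rfl | rfl
        exacts [Commute.one_right s, hsz, hc, hsz.mul_right hc]
      have hyo := syl_order F P hy (fun h => hyx (h ▸ one_mem _))
      have hy3 : y * y * y = 1 := by rw [← pow_three', ← hyo, pow_orderOf_eq_one]
      have hw : y * z * y⁻¹ ∈ four x := conj_four F ho
        (Or.inl (mul_inv_eq_iff_eq_mul.2 (syl_comm F P hy hx).eq)) hz
      have h1 : y⁻¹ * z * y = y * z * y⁻¹ := by
        conv_rhs => rw [← mul_inv_eq_iff_eq_mul.2 (hall _ hw).eq]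
        calc y⁻¹ * z * y = (s * y * s⁻¹) * z * (s * y⁻¹ * s⁻¹) := by
              rw [hinv y hy, hinv _ (inv_mem hy), inv_inv]
          _ = (s * y * s⁻¹) * (s * z * s⁻¹) * (s * y⁻¹ * s⁻¹) := by
              rw [mul_inv_eq_iff_eq_mul.2 hsz.eq]
          _ = s * (y * z * y⁻¹) * s⁻¹ := by group
      have h2 : Commute (y * y) z := by
        calc y * y * z = y * (y * z * y⁻¹) * y := by group
          _ = y * (y⁻¹ * z * y) * y := by rw [h1]
          _ = z * (y * y) := by group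
      have h3 : Commute y z := by
        have e : y = (y * y) * (y * y) := by
          calc y = y * y * y * y := by rw [hy3, one_mul]
            _ = _ := by group
        rw [e]; exact h2.mul_left h2
      exact hz1 (not_comm F P hx hx1 hy hyx hz h3)
    rcases four_cases F ho hz hz1 hv hv1 hvz hsv with h | h | h | h
    · exact absurd (conj_eq_one_iff.1 h) hv1
    · have : s * v * s⁻¹ = s * z * s⁻¹ := by rw [h, mul_inv_eq_iff_eq_mul.2 hsz.eq]
      exact absurd (mul_left_cancel (mul_right_cancel this)) hvz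
    · exact absurd (mul_inv_eq_iff_eq_mul.1 h) hnc
    · exact h
  -- the kernel of the action of `C` on the cosets of a Sylow two-subgroup
  have hC : Nat.card (centralizer ({z} : Set G)) = 384 := F.cent2 z (orderOf_two hzz hz1)
  set C := centralizer ({z} : Set G) with hCdef
  obtain ⟨T⟩ : Nonempty (Sylow 2 C) := inferInstance
  have hT : Nat.card (T : Subgroup C) = 128 := by
    rw [T.card_eq_multiplicity, hC, show (384 : ℕ) = 2 ^ 7 * 3 by norm_num,
      Nat.factorization_mul (by norm_num) (by norm_num), Finsupp.add_apply,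
      Nat.Prime.factorization_pow Nat.prime_two,
      Nat.factorization_eq_zero_of_not_dvd (by norm_num : ¬ 2 ∣ 3)]
    simp
  have hidx : Nat.card (C ⧸ (T : Subgroup C)) = 3 := by
    have := (T : Subgroup C).card_eq_card_quotient_mul_card_subgroup
    rw [hC, hT] at this
    omega
  obtain ⟨π, hker⟩ : ∃ π : C →* Perm (Fin 3), IsPGroup 2 π.ker := by
    let e : C ⧸ (T : Subgroup C) ≃ Fin 3 := Finite.equivFinOfCardEq hidx
    refine ⟨e.permCongrHom.toMonoidHom.comp (MulAction.toPermHom C (C ⧸ (T : Subgroup C))), ?_⟩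
    have h1 : (e.permCongrHom.toMonoidHom.comp (MulAction.toPermHom C (C ⧸ (T : Subgroup C)))).ker =
        (T : Subgroup C).normalCore := by
      rw [(T : Subgroup C).normalCore_eq_ker]
      ext g
      simp [MonoidHom.mem_ker]
    rw [h1]
    exact T.isPGroup'.to_le (normalCore_le _)
  have hxC : x ∈ C := mem_centralizer_singleton_iff.2 hxz.eq
  have hsC : s ∈ C := mem_centralizer_singleton_iff.2 hsz.eq
  set a := π ⟨x, hxC⟩ with ha
  set b := π ⟨s, hsC⟩ with hb
  obtain ⟨hP1, hP2, hP3⟩ := perm3_facts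
  have ha3 : a ^ 3 = 1 := by
    rw [ha, ← map_pow, show (⟨x, hxC⟩ : C) ^ 3 = 1 from Subtype.ext hx3, map_one]
  have ha1 : a ≠ 1 := by
    intro h
    obtain ⟨k, hk⟩ := hker ⟨⟨x, hxC⟩, h⟩
    have h2 : x ^ 2 ^ k = 1 := by simpa using congrArg (fun q : π.ker => ((q : C) : G)) hk
    have h3 := orderOf_dvd_iff_pow_eq_one.2 h2
    rw [ho] at h3
    exact absurd (Nat.prime_three.dvd_of_dvd_pow h3) (by norm_num)
  have hb2 : b * b = 1 := by
    rw [hb, ← map_mul, show (⟨s, hsC⟩ : C) * ⟨s, hsC⟩ = 1 from Subtype.ext hss, map_one]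
  have hb1 : b ≠ 1 := by
    intro h
    have h1 : (⟨s, hsC⟩ : C) * ⟨x, hxC⟩ * (⟨s, hsC⟩ : C)⁻¹ = (⟨x, hxC⟩ : C)⁻¹ :=
      Subtype.ext (hinv x hx)
    have h2 := congrArg π h1
    rw [map_mul, map_mul, map_inv, map_inv, ← hb, ← ha, h, inv_one, one_mul, mul_one] at h2
    have h4 : a * a = 1 := by nth_rewrite 1 [h2]; exact inv_mul_cancel a
    exact ha1 (by
      calc a = a * a * a := by rw [h4, one_mul]
        _ = 1 := by rw [← pow_three', ha3])
  have hsurj : ∀ g : Perm (Fin 3), ∃ c : C, π c = g := fun g => by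
    obtain ⟨i, j, hij⟩ := hP2 a b g ha3 ha1 hb2 hb1
    exact ⟨⟨x, hxC⟩ ^ (i : ℕ) * ⟨s, hsC⟩ ^ (j : ℕ), by
      rw [map_mul, map_pow, map_pow, ← ha, ← hb, hij]⟩
  have hkc : Nat.card π.ker = 64 := by
    have h1 := π.ker.card_eq_card_quotient_mul_card_subgroup
    rw [hC, Nat.card_congr (QuotientGroup.quotientKerEquivOfSurjective π hsurj).toEquiv,
      Nat.card_eq_fintype_card (α := Perm (Fin 3)), Fintype.card_perm, Fintype.card_fin] at h1
    rw [show Nat.factorial 3 = 6 from rfl] at h1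
    omega
  refine ⟨{ hx := hx, hx1 := hx1, hss := hss, hinv := hinv, z := z, hz := hz, hz1 := hz1,
            hsz := hsz, hswap := hswap, O := π.ker.map C.subtype,
            O_le := map_subtype_le _,
            card_O := by rw [card_map_of_injective (subtype_injective _), hkc],
            O_norm := ?_, four_le := ?_, decomp := ?_, x_notMem := ?_, sq_mem := ?_ }⟩
  · intro g hg o ho'
    obtain ⟨o, hok, rfl⟩ := Subgroup.mem_map.1 ho'
    exact Subgroup.mem_map.2 ⟨⟨g, hg⟩ * o * (⟨g, hg⟩ : C)⁻¹,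
      (MonoidHom.normal_ker π).conj_mem o hok _, by simp⟩
  · intro v hv
    obtain ⟨hxv, hvv⟩ := (mem_four F ho).1 hv
    have hvC : v ∈ C := mem_centralizer_singleton_iff.2 (four_comm F ho hv hz).eq
    refine ⟨⟨v, hvC⟩, ?_, rfl⟩
    rw [SetLike.mem_coe, MonoidHom.mem_ker]
    refine hP1 a _ ha3 ha1 ?_ ?_
    · rw [← map_mul, show (⟨v, hvC⟩ : C) * ⟨v, hvC⟩ = 1 from Subtype.ext hvv, map_one]
    · rw [ha, ← map_mul, ← map_mul]
      exact congrArg π (Subtype.ext hxv.eq)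
  · intro g hg
    obtain ⟨i, j, hij⟩ := hP2 a b (π ⟨g, hg⟩) ha3 ha1 hb2 hb1
    refine ⟨g * (s ^ (j : ℕ))⁻¹ * (x ^ (i : ℕ))⁻¹, ?_, i, j, by group⟩
    refine ⟨⟨g, hg⟩ * ((⟨s, hsC⟩ : C) ^ (j : ℕ))⁻¹ * ((⟨x, hxC⟩ : C) ^ (i : ℕ))⁻¹, ?_, by simp⟩
    rw [SetLike.mem_coe, MonoidHom.mem_ker, map_mul, map_mul, map_inv, map_inv, map_pow, map_pow,
      ← ha, ← hb, hij]
    group
  · rintro ⟨o, ho', hox⟩
    exact ha1 (by rwa [show o = ⟨x, hxC⟩ from Subtype.ext hox] at ho')
  · intro g hg k hk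
    refine ⟨(⟨g, hg⟩ : C) ^ 2, ?_, by simp⟩
    rw [SetLike.mem_coe, MonoidHom.mem_ker, map_pow]
    rcases hP3 (π ⟨g, hg⟩) with h | h
    · have h2 : (π ⟨g, hg⟩) ^ 2 ^ k = 1 := by
        rw [← map_pow, show (⟨g, hg⟩ : C) ^ 2 ^ k = 1 from Subtype.ext (by simpa using hk), map_one]
      have h3 : orderOf (π ⟨g, hg⟩) ∣ 1 := by
        have hco : Nat.Coprime (2 ^ k) 3 := Nat.Coprime.pow_left k (by norm_num)
        have := Nat.dvd_gcd (orderOf_dvd_of_pow_eq_one h2) (orderOf_dvd_of_pow_eq_one h)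
        rwa [hco] at this
      rw [orderOf_eq_one_iff.1 (Nat.dvd_one.1 h3), one_pow]
    · exact h

end CfsgLib.M22Nse.Six
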