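import Cfsg.Agent.Lib.M22Nse.Sixteen.Frame
import Cfsg.Agent.Lib.Coprime.Action2

/-!
# Two commuting four groups and their product
-/

set_option autoImplicit false
set_option linter.unusedSectionVars false

namespace CfsgLib.M22Nse.Six

open Subgroup

universe u

variable {G : Type u} [Group G] [Finite G]

theorem exists_normalising {p : ℕ} [Fact p.Prime] {H K : Subgroup G} (hK : IsPGroup p K)
    (hHK : H ≤ K) (hne : ¬ K ≤ H) :
    ∃ k ∈ K, k ∉ H ∧ ∀ h ∈ H, k * h * k⁻¹ ∈ H := by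
  have hnil : Group.IsNilpotent K := hK.isNilpotent
  have hlt : H.subgroupOf K < ⊤ := lt_top_iff_ne_top.2 fun h => hne (subgroupOf_eq_top.1 h)
  obtain ⟨⟨k, hkK⟩, hk, hkH⟩ := SetLike.exists_of_lt (normalizerCondition_of_isNilpotent _ hlt)
  refine ⟨k, hkK, fun h => hkH (mem_subgroupOf.2 h), fun h hh => ?_⟩
  exact mem_subgroupOf.1 ((mem_normalizer_iff.1 hk ⟨h, hHK hh⟩).1 (mem_subgroupOf.2 hh))

theorem mem_normalizer_sup {H K : Subgroup G} {g : G} (hH : g ∈ normalizer (H : Set G))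
    (hK : g ∈ normalizer (K : Set G)) : g ∈ normalizer ((H ⊔ K : Subgroup G) : Set G) :=
  zpowers_le.1 (Coprime.le_normalizer_sup_sup (zpowers_le.2 hH) (zpowers_le.2 hK))

theorem mem_normalizer_of_conj {H : Subgroup G} {g : G} (hg : ∀ h ∈ H, g * h * g⁻¹ ∈ H) :
    g ∈ normalizer (H : Set G) := by
  refine mem_normalizer_iff.2 fun h => ⟨hg h, fun hh => ?_⟩
  have e : H.map (MulAut.conj g).toMonoidHom = H :=
    eq_of_le_of_card_ge (map_le_iff_le_comap.2 fun a ha => hg a ha)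
      (card_map_of_injective (MulAut.conj g).injective).ge
  rw [← e] at hh
  obtain ⟨a, ha, hae⟩ := Subgroup.mem_map.1 hh
  have h2 : g * a * g⁻¹ = g * h * g⁻¹ := hae
  exact mul_left_cancel (mul_right_cancel h2) ▸ ha

/-- an element of `y`-conjugation moves each involution of the four group to each other one -/
theorem trans_four (F : Facts G) (P : Sylow 3 G) {u y : G} (hu : u ∈ (P : Subgroup G))
    (hu1 : u ≠ 1) (hy : y ∈ (P : Subgroup G)) (hyu : y ∉ zpowers u) {w w' : G} (hw : w ∈ four u)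
    (hw1 : w ≠ 1) (hw' : w' ∈ four u) (hw1' : w' ≠ 1) :
    ∃ p ∈ zpowers y, p * w * p⁻¹ = w' := by
  have ho := syl_order F P hu hu1
  have hyn : ∀ q ∈ four u, y * q * y⁻¹ ∈ four u := fun q hq =>
    conj_four F ho (Or.inl (mul_inv_eq_iff_eq_mul.2 (syl_comm F P hy hu).eq)) hq
  have hfree : ∀ q ∈ four u, q ≠ 1 → y * q * y⁻¹ ≠ q := fun q hq hq1 h =>
    hq1 (not_comm F P hu hu1 hy hyu hq (mul_inv_eq_iff_eq_mul.1 h))
  obtain ⟨v, hv⟩ : ∃ v, v = y * w * y⁻¹ := ⟨_, rfl⟩
  have hvw : v ≠ w := hv ▸ hfree w hw hw1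
  have hv1 : v ≠ 1 := fun h => hw1 (conj_eq_one_iff.1 (hv ▸ h))
  have hvm : v ∈ four u := hv ▸ hyn w hw
  rcases four_cases F ho hw hw1 hvm hv1 hvw hw' with h | h | h | h
  · exact absurd h hw1'
  · exact ⟨1, one_mem _, by rw [h]; group⟩
  · exact ⟨y, mem_zpowers y, by rw [h, hv]⟩
  · refine ⟨y * y, mul_mem (mem_zpowers y) (mem_zpowers y), ?_⟩
    have e : y * y * w * (y * y)⁻¹ = y * v * y⁻¹ := by rw [hv]; group
    rw [h, e]
    have hne1 : y * v * y⁻¹ ≠ 1 := fun k => hv1 (conj_eq_one_iff.1 k)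
    rcases four_cases F ho hw hw1 hvm hv1 hvw (hyn v hvm) with k | k | k | k
    · exact absurd k hne1
    · exfalso
      have hyo := syl_order F P hy (fun h => hyu (h ▸ one_mem _))
      have h3 : y * y * y = 1 := by rw [← pow_three', ← hyo, pow_orderOf_eq_one]
      refine hfree w hw hw1 ?_
      calc y * w * y⁻¹ = y * (y * v * y⁻¹) * y⁻¹ := by rw [k]
        _ = (y * y * y) * w * (y * y * y)⁻¹ := by rw [hv]; group
        _ = w := by rw [h3]; group
    · exact absurd k (hfree v hvm hv1)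
    · exact k

theorem exists_other (F : Facts G) (P : Sylow 3 G) {x : G} (hx : x ∈ (P : Subgroup G))
    (hx1 : x ≠ 1) : ∃ y ∈ (P : Subgroup G), y ∉ zpowers x := by
  by_contra h
  push Not at h
  have := card_dvd_of_le (show (P : Subgroup G) ≤ zpowers x from h)
  rw [card_syl F P, Nat.card_zpowers, syl_order F P hx hx1] at this
  norm_num at this

/-- a two-subgroup normalised by `P` and not inside `H` contains a four group not inside `H` -/
theorem exists_four_le (F : Facts G) (P : Sylow 3 G) {K H : Subgroup G} (hK : IsPGroup 2 K)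
    (hPK : (P : Subgroup G) ≤ normalizer (K : Set G)) (hne : ¬ K ≤ H) :
    ∃ u ∈ (P : Subgroup G), u ≠ 1 ∧ four u ≤ K ∧ ¬ four u ≤ H := by
  have : Fact (Nat.Prime 2) := ⟨Nat.prime_two⟩
  have : IsMulCommutative (P : Subgroup G) :=
    ⟨⟨fun a b => Subtype.ext (syl_comm F P a.2 b.2).eq⟩⟩
  have hcyc : ¬ IsCyclic (P : Subgroup G) := by
    intro h
    obtain ⟨g, hg⟩ := h.exists_ofOrder_eq_natCard
    rw [card_syl F P, ← orderOf_coe] at hg
    rcases eq_or_ne (g : G) 1 with h1 | h1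
    · rw [h1, orderOf_one] at hg; norm_num at hg
    · rw [syl_order F P g.2 h1] at hg; norm_num at hg
  have hcop : (Nat.card (P : Subgroup G)).Coprime (Nat.card K) := by
    obtain ⟨n, hn⟩ := hK.exists_card_eq
    rw [card_syl F P, hn]
    exact Nat.Coprime.pow_right n (by norm_num)
  by_contra hcon
  push Not at hcon
  refine hne (Coprime.le_of_centralizer_le_of_not_isCyclic hcyc hPK hcop fun a ha ha1 w hw => ?_)
  obtain ⟨hwK, hwc⟩ := hw
  have ho := syl_order F P ha ha1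
  obtain ⟨k, hk⟩ := hK ⟨w, hwK⟩
  have hw4 : w ∈ four a := two_mem_four F ho
    (mem_centralizer_singleton_iff.1 hwc).symm (k := k) (by simpa using congrArg Subtype.val hk)
  rcases eq_or_ne w 1 with rfl | hw1
  · exact one_mem H
  refine hcon a ha ha1 (fun v hv => ?_) hw4
  rcases eq_or_ne v 1 with rfl | hv1
  · exact one_mem K
  obtain ⟨y, hy, hya⟩ := exists_other F P ha ha1
  obtain ⟨p, hp, rfl⟩ := trans_four F P ha ha1 hy hya hw4 hw1 hv hv1
  exact (mem_normalizer_iff.1 (hPK (zpowers_le.2 hy hp)) w).1 hwK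

variable {P : Sylow 3 G} {s x : G} (F : Facts G) (D : Data P s x)
include F D

theorem Data.ox : orderOf x = 3 := syl_order F P D.hx D.hx1

theorem Data.x3 : x ^ 3 = 1 := by rw [← D.ox F, pow_orderOf_eq_one]

theorem Data.x_mem_C : x ∈ centralizer ({D.z} : Set G) :=
  mem_centralizer_singleton_iff.2 ((mem_four F (D.ox F)).1 D.hz).1.eq

theorem Data.isPGroup_O : IsPGroup 2 D.O := IsPGroup.of_card (n := 6) (by rw [D.card_O]; norm_num)

omit F in
theorem Data.comm_z {o : G} (ho : o ∈ D.O) : Commute o D.z :=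
  mem_centralizer_singleton_iff.1 (D.O_le ho)

theorem Data.O_fixed {g : G} (hg : g ∈ D.O) (hc : Commute x g) : g ∈ four x := by
  obtain ⟨k, hk⟩ := D.isPGroup_O F ⟨g, hg⟩
  exact two_mem_four F (D.ox F) hc (k := k) (by simpa using congrArg Subtype.val hk)

/-- an invariant subgroup between the four group and `O` is not of order 32 -/
theorem Data.card_ne {H : Subgroup G} (h1 : four x ≤ H) (h2 : H ≤ D.O)
    (h3 : ∀ g ∈ H, x * g * x⁻¹ ∈ H) : Nat.card H ≠ 32 := by
  intro hc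
  have h := card_modEq (D.x3 F) (H : Set G) h3
  have e : Nat.card {g : G // g ∈ (H : Set G) ∧ Commute x g} = 4 := by
    rw [← card_four F (D.ox F)]
    exact Nat.card_congr (Equiv.subtypeEquivRight fun g =>
      ⟨fun hg => D.O_fixed F (h2 hg.1) hg.2, fun hg => ⟨h1 hg, ((mem_four F (D.ox F)).1 hg).1⟩⟩)
  rw [e, SetLike.coe_sort_coe, hc] at h
  exact absurd h (by decide)

theorem Data.exists_v : ∃ v ∈ four x, v ≠ 1 ∧ v ≠ D.z := by
  obtain ⟨y, hy, hyx⟩ := exists_other F P D.hx D.hx1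
  exact ⟨y * D.z * y⁻¹, conj_four F (D.ox F)
    (Or.inl (mul_inv_eq_iff_eq_mul.2 (syl_comm F P hy D.hx).eq)) D.hz,
    fun h => D.hz1 (conj_eq_one_iff.1 h),
    fun h => D.hz1 (not_comm F P D.hx D.hx1 hy hyx D.hz (mul_inv_eq_iff_eq_mul.1 h))⟩

/-- an element of `O` does not fuse two involutions of the four group -/
theorem Data.conj_fix {o v : G} (ho : o ∈ D.O) (hv : v ∈ four x) (h : o * v * o⁻¹ ∈ four x) :
    o * v * o⁻¹ = v := by
  classical
  rcases eq_or_ne v 1 with rfl | hv1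
  · simp
  rcases eq_or_ne v D.z with rfl | hvz
  · exact mul_inv_eq_iff_eq_mul.2 (D.comm_z ho).eq
  rcases four_cases F (D.ox F) D.hz D.hz1 hv hv1 hvz h with e | e | e | e
  · exact absurd (conj_eq_one_iff.1 e) hv1
  · have : o * v * o⁻¹ = o * D.z * o⁻¹ := by rw [e, mul_inv_eq_iff_eq_mul.2 (D.comm_z ho).eq]
    exact absurd (mul_left_cancel (mul_right_cancel this)) hvz
  · exact e
  exfalso
  let S : Set G := {g | g ∈ D.O ∧ g * v * g⁻¹ = D.z * v}
  have hS : Nat.card S = Nat.card ↥(D.O ⊓ centralizer ({v} : Set G)) := by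
    refine Nat.card_congr
      { toFun := fun g => ⟨o⁻¹ * g.1, D.O.mul_mem (D.O.inv_mem ho) g.2.1, ?_⟩
        invFun := fun g => ⟨o * g.1, D.O.mul_mem ho g.2.1, ?_⟩
        left_inv := fun g => Subtype.ext (mul_inv_cancel_left o g.1)
        right_inv := fun g => Subtype.ext (inv_mul_cancel_left o g.1) }
    · refine mem_centralizer_singleton_iff.2 (mul_inv_eq_iff_eq_mul.1 ?_)
      calc o⁻¹ * g.1 * v * (o⁻¹ * g.1)⁻¹ = o⁻¹ * (g.1 * v * g.1⁻¹) * o := by group
        _ = o⁻¹ * (o * v * o⁻¹) * o := by rw [g.2.2, e]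
        _ = v := by group
    · calc o * g.1 * v * (o * g.1)⁻¹ = o * (g.1 * v * g.1⁻¹) * o⁻¹ := by group
        _ = o * v * o⁻¹ := by rw [mul_inv_eq_iff_eq_mul.2 (mem_centralizer_singleton_iff.1 g.2.2)]
        _ = _ := e
  have hxv := mul_inv_eq_iff_eq_mul.2 ((mem_four F (D.ox F)).1 hv).1.eq
  have hxz := mul_inv_eq_iff_eq_mul.2 ((mem_four F (D.ox F)).1 D.hz).1.eq
  have hinvx : x⁻¹ * v * x = v := by conv_lhs => rw [← hxv]
                                     group
  obtain ⟨g, ⟨hgO, hgv⟩, hgc⟩ := exists_fixed (D.x3 F) S (fun g hg => ⟨D.O_norm x (D.x_mem_C F) g hg.1,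
      by
      calc x * g * x⁻¹ * v * (x * g * x⁻¹)⁻¹ = x * (g * (x⁻¹ * v * x) * g⁻¹) * x⁻¹ := by group
        _ = x * (D.z * v) * x⁻¹ := by rw [hinvx, hg.2]
        _ = (x * D.z * x⁻¹) * (x * v * x⁻¹) := by group
        _ = D.z * v := by rw [hxz, hxv]⟩) (by
      rw [hS]
      intro h3
      have h64 := h3.trans (card_dvd_of_le (inf_le_left : D.O ⊓ centralizer ({v} : Set G) ≤ D.O))
      rw [D.card_O] at h64
      norm_num at h64)
  have hg4 := D.O_fixed F hgO hgc
  rw [mul_inv_eq_iff_eq_mul.2 (four_comm F (D.ox F) hg4 hv).eq] at hgv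
  exact D.hz1 (by simpa using hgv.symm)

/-- the centraliser of the four group in `O` -/
def Data.R : Subgroup G := D.O ⊓ centralizer (four x : Set G)

theorem Data.cent_four_le : centralizer (four x : Set G) ≤ centralizer ({D.z} : Set G) :=
  centralizer_le (Set.singleton_subset_iff.2 D.hz)

theorem Data.cent_decomp {g : G} (hg : g ∈ centralizer (four x : Set G)) :
    ∃ r ∈ D.R, ∃ i : Fin 3, g = r * x ^ (i : ℕ) := by
  obtain ⟨v, hv, hv1, hvz⟩ := D.exists_v F
  obtain ⟨o, ho, i, j, hgo⟩ := D.decomp g (D.cent_four_le F hg)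
  have hxi : x ^ (i : ℕ) ∈ centralizer (four x : Set G) := mem_centralizer_iff.2 fun w hw =>
    (((mem_four F (D.ox F)).1 hw).1.pow_left _).symm.eq
  fin_cases j
  · have e : g = o * x ^ (i : ℕ) := by simpa using hgo
    refine ⟨o, ⟨ho, ?_⟩, i, e⟩
    have : o = g * (x ^ (i : ℕ))⁻¹ := by rw [e]; group
    rw [SetLike.mem_coe, this]
    exact Subgroup.mul_mem _ hg (Subgroup.inv_mem _ hxi)
  · exfalso
    have e : g = o * x ^ (i : ℕ) * s := by simpa using hgo
    have hs := D.hswap v hv hv1 hvz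
    have hzv : D.z * v ∈ four x := mul_mem D.hz hv
    have h1 : o * (D.z * v) * o⁻¹ = v := by
      calc o * (D.z * v) * o⁻¹
          = o * (x ^ (i : ℕ) * (D.z * v) * (x ^ (i : ℕ))⁻¹) * o⁻¹ := by
            rw [mul_inv_eq_iff_eq_mul.2 (mem_centralizer_iff.1 hxi _ hzv).symm]
        _ = g * v * g⁻¹ := by rw [← hs, e]; group
        _ = v := mul_inv_eq_iff_eq_mul.2 (mem_centralizer_iff.1 hg v hv).symm
    have h2 := D.conj_fix F ho hzv (by rw [h1]; exact hv)
    rw [h1] at h2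
    exact D.hz1 (by simpa using h2.symm)

theorem Data.mem_R_of_pow {g : G} (hg : g ∈ centralizer (four x : Set G)) {k : ℕ}
    (hk : g ^ 2 ^ k = 1) : g ∈ D.R := by
  obtain ⟨r, hr, i, e⟩ := D.cent_decomp F hg
  have hsq := D.sq_mem g (D.cent_four_le F hg) k hk
  have hxC := pow_mem (D.x_mem_C F) (i : ℕ)
  have hmid : x ^ (i : ℕ) * r * (x ^ (i : ℕ))⁻¹ ∈ D.O := D.O_norm _ hxC r hr.1
  have hx2 : x ^ (2 * (i : ℕ)) ∈ D.O := by
    have : x ^ (2 * (i : ℕ)) = (r * (x ^ (i : ℕ) * r * (x ^ (i : ℕ))⁻¹))⁻¹ * g ^ 2 := by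
      rw [e, pow_two, two_mul, pow_add]; group
    rw [this]
    exact mul_mem (inv_mem (mul_mem hr.1 hmid)) hsq
  fin_cases i
  · simpa using e ▸ (show r * x ^ ((⟨0, by norm_num⟩ : Fin 3) : ℕ) ∈ D.R by simpa using hr)
  · exfalso
    refine D.x_notMem ?_
    have h4 := pow_mem hx2 2
    rwa [← pow_mul, show 2 * 1 * 2 = 3 + 1 from rfl, pow_add, D.x3 F, one_mul, pow_one] at h4
  · exfalso
    refine D.x_notMem ?_
    change x ^ (2 * 2) ∈ D.O at hx2
    rwa [show 2 * 2 = 3 + 1 from rfl, pow_add, D.x3 F, one_mul, pow_one] at hx2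

theorem Data.R_norm {g : G} (hg : g ∈ normalizer (four x : Set G)) :
    g ∈ normalizer (D.R : Set G) := by
  have h : ∀ a ∈ normalizer (four x : Set G), ∀ r ∈ D.R, a * r * a⁻¹ ∈ D.R := by
    intro a ha r hr
    obtain ⟨k, hk⟩ := D.isPGroup_O F ⟨r, hr.1⟩
    have hk' : r ^ 2 ^ k = 1 := by simpa using congrArg Subtype.val hk
    refine D.mem_R_of_pow F (mem_centralizer_iff.2 fun w hw => ?_) (k := k)
      (by rw [conj_pow, hk', mul_one, mul_inv_cancel])
    have hw' : a⁻¹ * w * a ∈ four x := (mem_normalizer_iff.1 ha _).2 (by simpa [mul_assoc] using hw)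
    calc w * (a * r * a⁻¹) = a * ((a⁻¹ * w * a) * r) * a⁻¹ := by group
      _ = a * (r * (a⁻¹ * w * a)) * a⁻¹ := by rw [mem_centralizer_iff.1 hr.2 _ hw']
      _ = a * r * a⁻¹ * w := by group
  refine mem_normalizer_iff.2 fun r => ⟨h g hg r, fun hr => ?_⟩
  simpa [mul_assoc] using h g⁻¹ (inv_mem hg) _ hr

theorem Data.P_norm : (P : Subgroup G) ≤ normalizer (four x : Set G) := fun p hp =>
  mem_normalizer_four F (D.ox F) (Or.inl (mul_inv_eq_iff_eq_mul.2 (syl_comm F P hp D.hx).eq))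

theorem Data.isPGroup_R : IsPGroup 2 D.R := (D.isPGroup_O F).to_le inf_le_left

/-- a four group commuting with the one of `x` -/
theorem Data.exists_partner : ∃ u ∈ (P : Subgroup G), u ≠ 1 ∧
    (∀ a ∈ four x, ∀ b ∈ four u, Commute a b) ∧ four x ⊓ four u = ⊥ := by
  have : Fact (Nat.Prime 2) := ⟨Nat.prime_two⟩
  have hne : ¬ D.R ≤ four x := by
    intro hle
    have h0 : ¬ D.O ≤ four x := fun h => by
      have := card_dvd_of_le h
      rw [D.card_O, card_four F (D.ox F)] at this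
      norm_num at this
    obtain ⟨o, ho, hno, hn⟩ := exists_normalising (p := 2) (D.isPGroup_O F) D.four_le h0
    exact hno (hle ⟨ho, mem_centralizer_iff.2 fun w hw =>
      (mul_inv_eq_iff_eq_mul.1 (D.conj_fix F ho hw (hn w hw))).symm⟩)
  obtain ⟨u, hu, hu1, hle, hnot⟩ := exists_four_le F P (D.isPGroup_R F)
    (fun p hp => D.R_norm F (D.P_norm F hp)) hne
  refine ⟨u, hu, hu1, fun a ha b hb => mem_centralizer_iff.1 (hle hb).2 a ha, ?_⟩
  rw [eq_bot_iff]
  intro t ht
  rw [mem_bot]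
  by_contra ht1
  refine hnot fun b hb => ?_
  have hou := syl_order F P hu hu1
  by_cases hux : u ∈ zpowers x
  · have e : zpowers u = zpowers x := eq_of_le_of_card_ge (zpowers_le.2 hux)
      (by rw [Nat.card_zpowers, Nat.card_zpowers, hou, D.ox F])
    obtain ⟨n, hn⟩ := mem_zpowers_iff.1 (e.symm ▸ mem_zpowers x : x ∈ zpowers u)
    refine (mem_four F (D.ox F)).2 ⟨?_, ((mem_four F hou).1 hb).2⟩
    rw [← hn]
    exact ((mem_four F hou).1 hb).1.zpow_left n
  · exact absurd (not_comm F P D.hx D.hx1 hu hux ht.1 ((mem_four F hou).1 ht.2).1) ht1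

/-! ### The product of two commuting four groups -/

variable {u : G} (hu : u ∈ (P : Subgroup G)) (hu1 : u ≠ 1)
  (hc : ∀ a ∈ four x, ∀ b ∈ four u, Commute a b) (hd : four x ⊓ four u = ⊥)

omit F D in
theorem four_le_normalizer {u x : G} (hc : ∀ a ∈ four x, ∀ b ∈ four u, Commute a b) :
    four x ≤ normalizer (four u : Set G) := fun a ha => mem_normalizer_iff.2 fun b => by
  refine ⟨fun hb => by rwa [mul_inv_eq_iff_eq_mul.2 (hc a ha b hb).eq], fun hb => ?_⟩
  have h := hc a ha _ hb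
  have : a * b * a⁻¹ = b := by
    calc a * b * a⁻¹ = a⁻¹ * (a * (a * b * a⁻¹)) := by group
      _ = a⁻¹ * ((a * b * a⁻¹) * a) := by rw [h.eq]
      _ = b := by group
  rwa [this] at hb

omit F D in
theorem mem_sup_four {u x : G} (hc : ∀ a ∈ four x, ∀ b ∈ four u, Commute a b) {g : G} :
    g ∈ four x ⊔ four u ↔ ∃ a ∈ four x, ∃ b ∈ four u, a * b = g :=
  Coprime.mem_sup_iff_of_le_normalizer (four_le_normalizer hc)

include hu hu1 hc hd

theorem Data.card_A : Nat.card ↥(four x ⊔ four u) = 16 := by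
  rw [Coprime.card_sup_of_inf_eq_bot (four_le_normalizer hc) hd, card_four F (D.ox F),
    card_four F (syl_order F P hu hu1)]

omit hd in
theorem Data.elem_A {g : G} (hg : g ∈ four x ⊔ four u) : g * g = 1 := by
  obtain ⟨a, ha, b, hb, rfl⟩ := (mem_sup_four hc).1 hg
  rw [(hc a ha b hb).symm.mul_mul_mul_comm, ((mem_four F (D.ox F)).1 ha).2,
    ((mem_four F (syl_order F P hu hu1)).1 hb).2, one_mul]

omit hd in
theorem Data.comm_A {g h : G} (hg : g ∈ four x ⊔ four u) (hh : h ∈ four x ⊔ four u) :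
    Commute g h :=
  comm_of_sq (D.elem_A F hu hu1 hc hg) (D.elem_A F hu hu1 hc hh)
    (D.elem_A F hu hu1 hc (mul_mem hg hh))

omit hu1 hd in
theorem Data.P_norm_A (hu1 : u ≠ 1) :
    (P : Subgroup G) ≤ normalizer ((four x ⊔ four u : Subgroup G) : Set G) := fun p hp =>
  mem_normalizer_sup (D.P_norm F hp) (mem_normalizer_four F (syl_order F P hu hu1)
    (Or.inl (mul_inv_eq_iff_eq_mul.2 (syl_comm F P hp hu).eq)))

omit hu1 hd in
theorem Data.s_norm_A (hu1 : u ≠ 1) : s ∈ normalizer ((four x ⊔ four u : Subgroup G) : Set G) :=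
  mem_normalizer_sup (mem_normalizer_four F (D.ox F) (Or.inr (D.hinv x D.hx)))
    (mem_normalizer_four F (syl_order F P hu hu1) (Or.inr (D.hinv u hu)))

omit hd in
theorem Data.A_le : four x ⊔ four u ≤ D.O := by
  refine sup_le D.four_le fun b hb => ?_
  exact (D.mem_R_of_pow F (mem_centralizer_iff.2 fun a ha => (hc a ha b hb).eq) (k := 1)
    (by rw [pow_one, pow_two]; exact ((mem_four F (syl_order F P hu hu1)).1 hb).2)).1

theorem Data.O_norm_A : D.O ≤ normalizer ((four x ⊔ four u : Subgroup G) : Set G) := by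
  have : Fact (Nat.Prime 2) := ⟨Nat.prime_two⟩
  set A := four x ⊔ four u with hA
  set N := D.O ⊓ normalizer (A : Set G) with hN
  have hA16 := D.card_A F hu hu1 hc hd
  have hAO := D.A_le F hu hu1 hc
  have hAN : A ≤ N := le_inf hAO le_normalizer
  have hnot : ¬ D.O ≤ A := fun h => by
    have := card_dvd_of_le h
    rw [D.card_O, hA16] at this
    norm_num at this
  obtain ⟨o, ho, hno, hn⟩ := exists_normalising (p := 2) (D.isPGroup_O F) hAO hnot
  have hoN : o ∈ N := ⟨ho, mem_normalizer_of_conj hn⟩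
  have h16 : Nat.card N ≠ 16 := fun h =>
    hno (show o ∈ A by rw [eq_of_le_of_card_ge hAN (by rw [h, hA16])]; exact hoN)
  have h32 : Nat.card N ≠ 32 := D.card_ne F (le_sup_left.trans hAN) inf_le_left fun g hg =>
    ⟨D.O_norm x (D.x_mem_C F) g hg.1,
      Subgroup.mul_mem _ (Subgroup.mul_mem _ (D.P_norm_A F hu hc hu1 D.hx) hg.2)
        (Subgroup.inv_mem _ (D.P_norm_A F hu hc hu1 D.hx))⟩
  have hd16 : 16 ∣ Nat.card N := hA16 ▸ card_dvd_of_le hAN
  have hd64 : Nat.card N ∣ 64 := D.card_O ▸ card_dvd_of_le inf_le_left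
  have hcN : Nat.card N = 64 := by
    obtain ⟨k, hk⟩ := hd16
    rw [hk] at hd64 h16 h32 ⊢
    have hk4 : k ∣ 4 := Nat.dvd_of_mul_dvd_mul_left (by norm_num : 0 < 16) hd64
    have := Nat.le_of_dvd (by norm_num) hk4
    interval_cases k <;> omega
  have hNO : N = D.O := eq_of_le_of_card_ge inf_le_left (by rw [hcN, D.card_O])
  exact hNO ▸ inf_le_right

theorem Data.C_norm_A :
    centralizer ({D.z} : Set G) ≤ normalizer ((four x ⊔ four u : Subgroup G) : Set G) := by
  intro g hg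
  obtain ⟨o, ho, i, j, rfl⟩ := D.decomp g hg
  exact mul_mem (mul_mem (D.O_norm_A F hu hu1 hc hd ho)
    (pow_mem (D.P_norm_A F hu hc hu1 D.hx) _)) (pow_mem (D.s_norm_A F hu hc hu1) _)

end CfsgLib.M22Nse.Six
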